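import Cfsg.Agent.H493.RatB.WitS
import Cfsg.Agent.OddHalf.Known
import Cfsg.Agent.H145.BR.Table

/-!
# S4884 : the interface (helper706)

`q` is an odd prime, `S` a nonabelian finite simple group, `q ∣ |S|`.

* `Real S χ`   : `χ` is real valued (`∀ g, (χ g).im = 0`).
* `RowReal q S`: the principal `q`-block of `S` contains a nontrivial REAL character of odd degree, prime to `q`
  (it is then in the principal 2-block by S4483). This is the form for all cross characteristic rows.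
* `RowB q S`   : `B_0(2) ∩ B_0(q)` contains a nontrivial character of degree prime to `2 q` (not necessarily real).
* `NoOut p S`  : every `p'`-automorphism of `S` centralizing a Sylow `p`-subgroup of `S` is inner.
* `Row q S`    : `RowReal q S`, or `RowB q S` and (`NoOut 2 S` or `NoOut q S`).  **The row of S4884.**
* `RowFor q C` : the row for a family (universe 0). `Rows q` : all the rows. `Rows.all` : the dispatch.
-/

set_option autoImplicit false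

open Subgroup

namespace Cfsg.Agent.H706.PB

open Cfsg Cfsg.Agent.Blocks Cfsg.Agent.Blocks.Blau Cfsg.Agent.H145.BR Cfsg.Agent.Characters.Core

universe u v

/-- a nontrivial real character of odd degree prime to `q` in the principal `q`-block -/
def RowReal (q : ℕ) (S : Type u) [Group S] : Prop :=
  ∀ M : Ideal AlgInt, IsPModular q M → ∃ θ : IrrCharacter S, θ ∈ principalBlock M S ∧
    (θ : S → ℂ) ≠ (fun _ => (1 : ℂ)) ∧ ¬ 2 ∣ charDegree (θ : S → ℂ) ∧ ¬ q ∣ charDegree (θ : S → ℂ) ∧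
    ∀ g : S, ((θ : S → ℂ) g).im = 0

/-- a nontrivial character of degree prime to `2 q` in the intersection of the principal `2`- and `q`-blocks -/
def RowB (q : ℕ) (S : Type u) [Group S] : Prop :=
  ∀ M2 Mq : Ideal AlgInt, IsPModular 2 M2 → IsPModular q Mq → ∃ θ : IrrCharacter S,
    θ ∈ principalBlock M2 S ∧ θ ∈ principalBlock Mq S ∧
    (θ : S → ℂ) ≠ (fun _ => (1 : ℂ)) ∧ ¬ 2 ∣ charDegree (θ : S → ℂ) ∧ ¬ q ∣ charDegree (θ : S → ℂ)

/-- every automorphism of `S` of order prime to `p` centralizing a Sylow `p`-subgroup is inner -/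
def NoOut (p : ℕ) (S : Type u) [Group S] : Prop :=
  ∀ a : MulAut S, ¬ p ∣ orderOf a → (∃ P : Sylow p S, ∀ x ∈ (P : Subgroup S), a x = x) →
    a ∈ (MulAut.conj : S →* MulAut S).range

/-- **the row of S4884** -/
def Row (q : ℕ) (S : Type u) [Group S] : Prop :=
  RowReal q S ∨ (RowB q S ∧ (NoOut 2 S ∨ NoOut q S))

/-- all nonabelian simple groups of order divisible by `q` -/
def AllRows (q : ℕ) : Prop :=
  ∀ (S : Type u) [Group S] [Finite S] [IsSimpleGroup S], ¬ IsMulCommutative S → q ∣ Nat.card S → Row q S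

/-- commuting Sylow `2`- and `q`-subgroups -/
def Comm (q : ℕ) (G : Type u) [Group G] : Prop :=
  ∃ (P : Sylow 2 G) (Q : Sylow q G), ∀ x ∈ (P : Subgroup G), ∀ y ∈ (Q : Subgroup G), x * y = y * x

/-- the hypothesis of S4884 -/
def HypH (q : ℕ) (M2 Mq : Ideal AlgInt) (G : Type u) [Group G] : Prop :=
  ∀ χ : IrrCharacter G, χ ∈ principalBlock M2 G → χ ∈ principalBlock Mq G → ¬ 2 ∣ charDegree (χ : G → ℂ) →
    ¬ q ∣ charDegree (χ : G → ℂ) → (χ : G → ℂ) = fun _ => (1 : ℂ)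

/-- **the reduction of S4884** (TASK RED) -/
def Reduction : Prop :=
  ∀ (q : ℕ) [Fact q.Prime], q ≠ 2 → AllRows.{u} q → ∀ (M2 Mq : Ideal AlgInt), IsPModular 2 M2 → IsPModular q Mq →
    ∀ (G : Type u) [Group G] [Finite G], HypH q M2 Mq G → Comm q G

/-! ### transport along isomorphisms -/

theorem charDegree_comp {S : Type u} [Group S] {T : Type v} [Group T] (e : S ≃* T) (θ : T → ℂ) :
    charDegree (fun x : S => θ (e x)) = charDegree θ := by
  rw [Blocks.Basic.charDegree_def, Blocks.Basic.charDegree_def, map_one]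

theorem RowReal.congr {q : ℕ} {S : Type u} [Group S] [Finite S] {T : Type v} [Group T] (e : S ≃* T)
    (h : RowReal q T) : RowReal q S := by
  intro M hM
  obtain ⟨θ, h1, h2, h3, h4, h5⟩ := h M hM
  refine ⟨⟨_, isIrr_comp (e : S →* T) e.surjective θ.2⟩, H493.RatB.mem_principalBlock_comp e h1,
    fun h6 => h2 ?_, ?_, ?_, fun g => h5 (e g)⟩
  · funext y
    obtain ⟨x, rfl⟩ := e.surjective y
    exact congrFun h6 x
  · show ¬ 2 ∣ charDegree (fun x : S => (θ : T → ℂ) (e x))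
    rwa [charDegree_comp]
  · show ¬ q ∣ charDegree (fun x : S => (θ : T → ℂ) (e x))
    rwa [charDegree_comp]

theorem RowB.congr {q : ℕ} {S : Type u} [Group S] [Finite S] {T : Type v} [Group T] (e : S ≃* T)
    (h : RowB q T) : RowB q S := by
  intro M2 Mq hM2 hMq
  obtain ⟨θ, h1, h1', h2, h3, h4⟩ := h M2 Mq hM2 hMq
  refine ⟨⟨_, isIrr_comp (e : S →* T) e.surjective θ.2⟩, H493.RatB.mem_principalBlock_comp e h1,
    H493.RatB.mem_principalBlock_comp e h1', fun h6 => h2 ?_, ?_, ?_⟩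
  · funext y
    obtain ⟨x, rfl⟩ := e.surjective y
    exact congrFun h6 x
  · show ¬ 2 ∣ charDegree (fun x : S => (θ : T → ℂ) (e x))
    rwa [charDegree_comp]
  · show ¬ q ∣ charDegree (fun x : S => (θ : T → ℂ) (e x))
    rwa [charDegree_comp]

theorem NoOut.congr {p : ℕ} [Fact p.Prime] {S : Type u} [Group S] [Finite S] {T : Type v} [Group T] (e : S ≃* T)
    (h : NoOut p T) : NoOut p S := by
  intro a ha hP
  obtain ⟨P, hP⟩ := hP
  have hT : Finite T := Finite.of_equiv _ e.toEquiv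
  have ho : orderOf (MulAut.congr e a) = orderOf a := MulEquiv.orderOf_eq (MulAut.congr e) a
  have h1 := h (MulAut.congr e a) (by rwa [ho]) (by
    refine ⟨P.mapSurjective (f := e.toMonoidHom) e.surjective, ?_⟩
    intro y hy
    have hy' : y ∈ (P : Subgroup S).map e.toMonoidHom := hy
    obtain ⟨x, hx, rfl⟩ := hy'
    show e (a (e.symm (e x))) = e x
    rw [MulEquiv.symm_apply_apply, hP x hx])
  obtain ⟨t, ht⟩ := h1
  refine ⟨e.symm t, ?_⟩
  ext x
  have h2 := congrArg (fun b : MulAut T => b (e x)) ht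
  have h3 : (MulAut.congr e a) (e x) = e (a x) := by
    show e (a (e.symm (e x))) = e (a x)
    rw [MulEquiv.symm_apply_apply]
  simp only [h3, MulAut.conj_apply] at h2
  rw [MulAut.conj_apply]
  apply e.injective
  rw [map_mul, map_mul, map_inv, MulEquiv.apply_symm_apply, h2]

theorem Row.congr {q : ℕ} [Fact q.Prime] {S : Type u} [Group S] [Finite S] {T : Type v} [Group T] (e : S ≃* T)
    (h : Row q T) : Row q S := by
  rcases h with h | ⟨h, h' | h'⟩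
  · exact Or.inl (h.congr e)
  · exact Or.inr ⟨h.congr e, Or.inl (h'.congr e)⟩
  · exact Or.inr ⟨h.congr e, Or.inr (h'.congr e)⟩

/-! ### the rows -/

/-- the row for a family: all nonabelian simple groups `X` of order divisible by `q` with the property `C` -/
def RowFor (q : ℕ) (C : ∀ (X : Type) [Group X], Prop) : Prop :=
  ∀ (X : Type) [Group X] [Finite X] [IsSimpleGroup X], ¬ IsMulCommutative X → q ∣ Nat.card X → C X → Row q X

/-- the real row for a family -/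
def RowForR (q : ℕ) (C : ∀ (X : Type) [Group X], Prop) : Prop :=
  ∀ (X : Type) [Group X] [Finite X] [IsSimpleGroup X], ¬ IsMulCommutative X → q ∣ Nat.card X → C X → RowReal q X

/-- **the rows of S4884** for the odd prime `q`. `lieq`, `lie2`: own characteristic (the characteristic is `q` or `2`);
the other Lie families: the characteristic is neither `2` nor `q` (cross characteristic, real characters). -/
structure Rows (q : ℕ) : Prop where
  alt : RowFor q (fun X _ => IsAlternating X)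
  spor : RowFor q (fun X _ => IsSporadicGroup X)
  tits : RowFor q (fun X _ => Lie.IsoTits X)
  lieq : RowFor q (fun X _ => IsLieTypeChar q X)
  lie2 : RowFor q (fun X _ => IsLieTypeChar 2 X)
  psl : RowForR q (fun X _ => ∃ (F : Type) (_ : Field F) (_ : Fintype F) (n : ℕ), (q : F) ≠ 0 ∧ (2 : F) ≠ 0 ∧ 2 ≤ n ∧
    Nonempty (X ≃* Matrix.ProjectiveSpecialLinearGroup (Fin n) F))
  psp : RowForR q (fun X _ => ∃ (F : Type) (_ : Field F) (_ : Fintype F) (m : ℕ), (q : F) ≠ 0 ∧ (2 : F) ≠ 0 ∧ 2 ≤ m ∧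
    Nonempty (X ≃* PSp m F))
  psu : RowForR q (fun X _ => ∃ (F : Type) (_ : Field F) (_ : Fintype F) (n r : ℕ), (q : F) ≠ 0 ∧ (2 : F) ≠ 0 ∧
    Fintype.card F = r ^ 2 ∧ 3 ≤ n ∧ Nonempty (X ≃* PSU n F r))
  oodd : RowForR q (fun X _ => ∃ (F : Type) (_ : Field F) (_ : Fintype F) (m : ℕ), (q : F) ≠ 0 ∧ (2 : F) ≠ 0 ∧
    3 ≤ m ∧ Nonempty (X ≃* POmega F (quadFormOdd m F)))
  oplus : RowForR q (fun X _ => ∃ (F : Type) (_ : Field F) (_ : Fintype F) (m : ℕ), (q : F) ≠ 0 ∧ (2 : F) ≠ 0 ∧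
    4 ≤ m ∧ Nonempty (X ≃* POmega F (quadFormPlus m F)))
  ominus : RowForR q (fun X _ => ∃ (F : Type) (_ : Field F) (_ : Fintype F) (m : ℕ) (a b : F), (q : F) ≠ 0 ∧
    (2 : F) ≠ 0 ∧ 4 ≤ m ∧ (∀ z₁ z₂ : F, z₁ ^ 2 + a * z₁ * z₂ + b * z₂ ^ 2 = 0 → z₁ = 0 ∧ z₂ = 0) ∧
    Nonempty (X ≃* POmega F (quadFormMinus (m - 1) F a b)))
  g2 : RowForR q (fun X _ => ∃ (F : Type) (_ : Field F) (_ : Fintype F), (q : F) ≠ 0 ∧ (2 : F) ≠ 0 ∧
    Nonempty (X ≃* Lie.chevG2.group F))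
  f4 : RowForR q (fun X _ => ∃ (F : Type) (_ : Field F) (_ : Fintype F), (q : F) ≠ 0 ∧ (2 : F) ≠ 0 ∧
    Nonempty (X ≃* Lie.chevF4.group F))
  e6 : RowForR q (fun X _ => ∃ (F : Type) (_ : Field F) (_ : Fintype F), (q : F) ≠ 0 ∧ (2 : F) ≠ 0 ∧
    Nonempty (X ≃* Lie.chevE6.group F))
  e7 : RowForR q (fun X _ => ∃ (F : Type) (_ : Field F) (_ : Fintype F), (q : F) ≠ 0 ∧ (2 : F) ≠ 0 ∧
    Nonempty (X ≃* Lie.chevE7.group F))
  e8 : RowForR q (fun X _ => ∃ (F : Type) (_ : Field F) (_ : Fintype F), (q : F) ≠ 0 ∧ (2 : F) ≠ 0 ∧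
    Nonempty (X ≃* Lie.chevE8.group F))
  te6 : RowForR q (fun X _ => ∃ (K : Type) (_ : Field K) (_ : Fintype K) (r : ℕ), (q : K) ≠ 0 ∧ (2 : K) ≠ 0 ∧
    IsPrimePow r ∧ Fintype.card K = r ^ 2 ∧ Nonempty (X ≃* Lie.twistedE6 K r))
  td4 : RowForR q (fun X _ => ∃ (K : Type) (_ : Field K) (_ : Fintype K) (r : ℕ), (q : K) ≠ 0 ∧ (2 : K) ≠ 0 ∧
    IsPrimePow r ∧ Fintype.card K = r ^ 3 ∧ Nonempty (X ≃* Lie.twistedD4 K r))
  ree : q ≠ 3 → RowForR q (fun X _ => Lie.IsoRee X)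

section dispatch

variable {q : ℕ} [hp : Fact q.Prime] {X : Type} [Group X] [Finite X] [IsSimpleGroup X]

theorem two_zero {F : Type*} [Field F] (h : (2 : F) = 0) : CharP F 2 :=
  charP_of (p := 2) (by exact_mod_cast h)

/-- three cases for the characteristic -/
theorem Rows.lie (R : Rows q) (hna : ¬ IsMulCommutative X) (hd : q ∣ Nat.card X)
    {F : Type} [Field F] (C : ℕ → Prop) (hC : ∀ p : ℕ, CharP F p → C p) (hL : ∀ p : ℕ, C p → IsLieTypeChar p X)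
    (h : (q : F) ≠ 0 → (2 : F) ≠ 0 → RowReal q X) : Row q X := by
  by_cases hq : (q : F) = 0
  · exact R.lieq X hna hd (hL q (hC q (charP_of hq)))
  by_cases h2 : (2 : F) = 0
  · exact R.lie2 X hna hd (hL 2 (hC 2 (two_zero h2)))
  · exact Or.inl (h hq h2)

theorem Rows.rpsl (R : Rows q) (hna : ¬ IsMulCommutative X) (hd : q ∣ Nat.card X) (h : IsPSL X) : Row q X := by
  obtain ⟨F, iF, iN, n, hn, hn2, ⟨e⟩⟩ := h
  exact R.lie hna hd (F := F) (fun p => IsPSLChar p X) (fun p hp => ⟨F, iF, iN, hp, n, hn, hn2, ⟨e⟩⟩)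
    (fun p h => Or.inl h) fun hq h2 => R.psl X hna hd ⟨F, iF, iN, n, hq, h2, hn, ⟨e⟩⟩

theorem Rows.rpsp (R : Rows q) (hna : ¬ IsMulCommutative X) (hd : q ∣ Nat.card X) (h : IsPSp X) : Row q X := by
  obtain ⟨F, iF, iN, n, hn, hn2, ⟨e⟩⟩ := h
  exact R.lie hna hd (F := F) (fun p => IsPSpChar p X) (fun p hp => ⟨F, iF, iN, hp, n, hn, hn2, ⟨e⟩⟩)
    (fun p h => Or.inr (Or.inl h)) fun hq h2 => R.psp X hna hd ⟨F, iF, iN, n, hq, h2, hn, ⟨e⟩⟩

theorem Rows.rpsu (R : Rows q) (hna : ¬ IsMulCommutative X) (hd : q ∣ Nat.card X) (h : IsPSU X) : Row q X := by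
  obtain ⟨F, iF, iN, n, r, hr, hn, hn2, ⟨e⟩⟩ := h
  exact R.lie hna hd (F := F) (fun p => IsPSUChar p X) (fun p hp => ⟨F, iF, iN, hp, n, r, hr, hn, hn2, ⟨e⟩⟩)
    (fun p h => Or.inr (Or.inr (Or.inl h))) fun hq h2 => R.psu X hna hd ⟨F, iF, iN, n, r, hq, h2, hr, hn, ⟨e⟩⟩

theorem Rows.rpodd (R : Rows q) (hna : ¬ IsMulCommutative X) (hd : q ∣ Nat.card X) (h : IsPOmegaOdd X) :
    Row q X := by
  obtain ⟨F, iF, iN, m, hm, hodd, ⟨e⟩⟩ := h
  exact R.lie hna hd (F := F) (fun p => IsPOmegaOddChar p X) (fun p hp => ⟨F, iF, iN, hp, m, hm, hodd, ⟨e⟩⟩)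
    (fun p h => Or.inr (Or.inr (Or.inr (Or.inl h)))) fun hq h2 => R.oodd X hna hd ⟨F, iF, iN, m, hq, h2, hm, ⟨e⟩⟩

theorem Rows.rpplus (R : Rows q) (hna : ¬ IsMulCommutative X) (hd : q ∣ Nat.card X) (h : IsPOmegaPlus X) :
    Row q X := by
  obtain ⟨F, iF, iN, m, hm, ⟨e⟩⟩ := h
  exact R.lie hna hd (F := F) (fun p => IsPOmegaPlusChar p X) (fun p hp => ⟨F, iF, iN, hp, m, hm, ⟨e⟩⟩)
    (fun p h => Or.inr (Or.inr (Or.inr (Or.inr (Or.inl h)))))
    fun hq h2 => R.oplus X hna hd ⟨F, iF, iN, m, hq, h2, hm, ⟨e⟩⟩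

theorem Rows.rpminus (R : Rows q) (hna : ¬ IsMulCommutative X) (hd : q ∣ Nat.card X) (h : IsPOmegaMinus X) :
    Row q X := by
  obtain ⟨F, iF, iN, m, a, b, hm, hab, ⟨e⟩⟩ := h
  exact R.lie hna hd (F := F) (fun p => IsPOmegaMinusChar p X) (fun p hp => ⟨F, iF, iN, hp, m, a, b, hm, hab, ⟨e⟩⟩)
    (fun p h => Or.inr (Or.inr (Or.inr (Or.inr (Or.inr (Or.inl h))))))
    fun hq h2 => R.ominus X hna hd ⟨F, iF, iN, m, a, b, hq, h2, hm, hab, ⟨e⟩⟩

theorem lie_exc {p : ℕ} (h : IsExceptionalChevChar p X) : IsLieTypeChar p X :=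
  Or.inr (Or.inr (Or.inr (Or.inr (Or.inr (Or.inr (Or.inl h))))))

theorem lie_tw {p : ℕ} (h : IsTwistedE6D4Char p X) : IsLieTypeChar p X :=
  Or.inr (Or.inr (Or.inr (Or.inr (Or.inr (Or.inr (Or.inr (Or.inl h)))))))

theorem Rows.rexc (R : Rows q) (hna : ¬ IsMulCommutative X) (hd : q ∣ Nat.card X)
    (h : IsExceptionalLieType X) : Row q X := by
  rcases h with h | h | h | h | h | h | h | h | h | h | h
  · obtain ⟨F, iF, iN, h3, ⟨e⟩⟩ := h
    exact R.lie hna hd (F := F) (fun p => IsExceptionalChevChar p X)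
      (fun p hp => ⟨F, iF, iN, hp, Or.inl ⟨h3, ⟨e⟩⟩⟩) (fun p h => lie_exc h)
      fun hq h2 => R.g2 X hna hd ⟨F, iF, iN, hq, h2, ⟨e⟩⟩
  · obtain ⟨F, iF, iN, ⟨e⟩⟩ := h
    exact R.lie hna hd (F := F) (fun p => IsExceptionalChevChar p X)
      (fun p hp => ⟨F, iF, iN, hp, Or.inr (Or.inl ⟨e⟩)⟩) (fun p h => lie_exc h)
      fun hq h2 => R.f4 X hna hd ⟨F, iF, iN, hq, h2, ⟨e⟩⟩
  · obtain ⟨F, iF, iN, ⟨e⟩⟩ := h
    exact R.lie hna hd (F := F) (fun p => IsExceptionalChevChar p X)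
      (fun p hp => ⟨F, iF, iN, hp, Or.inr (Or.inr (Or.inl ⟨e⟩))⟩) (fun p h => lie_exc h)
      fun hq h2 => R.e6 X hna hd ⟨F, iF, iN, hq, h2, ⟨e⟩⟩
  · obtain ⟨F, iF, iN, ⟨e⟩⟩ := h
    exact R.lie hna hd (F := F) (fun p => IsExceptionalChevChar p X)
      (fun p hp => ⟨F, iF, iN, hp, Or.inr (Or.inr (Or.inr (Or.inl ⟨e⟩)))⟩) (fun p h => lie_exc h)
      fun hq h2 => R.e7 X hna hd ⟨F, iF, iN, hq, h2, ⟨e⟩⟩
  · obtain ⟨F, iF, iN, ⟨e⟩⟩ := h
    exact R.lie hna hd (F := F) (fun p => IsExceptionalChevChar p X)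
      (fun p hp => ⟨F, iF, iN, hp, Or.inr (Or.inr (Or.inr (Or.inr ⟨e⟩)))⟩) (fun p h => lie_exc h)
      fun hq h2 => R.e8 X hna hd ⟨F, iF, iN, hq, h2, ⟨e⟩⟩
  · obtain ⟨K, iF, iN, r, hr, hK, ⟨e⟩⟩ := h
    exact R.lie hna hd (F := K) (fun p => IsTwistedE6D4Char p X)
      (fun p hp => ⟨K, iF, iN, hp, r, hr, Or.inl ⟨hK, ⟨e⟩⟩⟩) (fun p h => lie_tw h)
      fun hq h2 => R.te6 X hna hd ⟨K, iF, iN, r, hq, h2, hr, hK, ⟨e⟩⟩
  · obtain ⟨K, iF, iN, r, hr, hK, ⟨e⟩⟩ := h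
    exact R.lie hna hd (F := K) (fun p => IsTwistedE6D4Char p X)
      (fun p hp => ⟨K, iF, iN, hp, r, hr, Or.inr ⟨hK, ⟨e⟩⟩⟩) (fun p h => lie_tw h)
      fun hq h2 => R.td4 X hna hd ⟨K, iF, iN, r, hq, h2, hr, hK, ⟨e⟩⟩
  · exact R.lie2 X hna hd (Or.inr (Or.inr (Or.inr (Or.inr (Or.inr (Or.inr (Or.inr (Or.inr (Or.inl ⟨rfl, h⟩)))))))))
  · by_cases hp3 : q = 3
    · exact R.lieq X hna hd (Or.inr (Or.inr (Or.inr (Or.inr (Or.inr (Or.inr (Or.inr (Or.inr (Or.inr (Or.inr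
        ⟨hp3, h⟩))))))))))
    · exact Or.inl (R.ree hp3 X hna hd h)
  · exact R.lie2 X hna hd (Or.inr (Or.inr (Or.inr (Or.inr (Or.inr (Or.inr (Or.inr (Or.inr (Or.inr (Or.inl
      ⟨rfl, h⟩))))))))))
  · exact R.tits X hna hd h

/-- **the dispatch** -/
theorem Rows.known (R : Rows q) {G : Type u} [Group G] [Finite G] [IsSimpleGroup G]
    (hna : ¬ IsMulCommutative G) (hd : q ∣ Nat.card G) (hk : IsKnownSimple' G) : Row q G := by
  have e : G ≃* Shrink.{0} G := (Shrink.mulEquiv.{0}).symm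
  have hf : Finite (Shrink.{0} G) := Finite.of_equiv _ e.toEquiv
  have hs : IsSimpleGroup (Shrink.{0} G) := e.symm.isSimpleGroup
  have h1 := nonab_congr e hna
  have h2 : q ∣ Nat.card (Shrink.{0} G) := by rwa [← Nat.card_congr e.toEquiv]
  refine Row.congr e ?_
  rcases OddHalf.Known.isKnownSimple'_congr e hna hk with h | h | h | h | h | h | h | h | h | h
  · exfalso
    have h3 : (Nat.card (Shrink.{0} G)).Prime := h
    have : Fact (Nat.card (Shrink.{0} G)).Prime := ⟨h3⟩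
    have hc : IsCyclic (Shrink.{0} G) := isCyclic_of_prime_card rfl
    exact h1 ⟨⟨fun a b => by
      let _ : CommGroup (Shrink.{0} G) := IsCyclic.commGroup
      exact mul_comm a b⟩⟩
  · exact R.alt _ h1 h2 h
  · exact R.rpsl h1 h2 h
  · exact R.rpsp h1 h2 h
  · exact R.rpsu h1 h2 h
  · exact R.rpodd h1 h2 h
  · exact R.rpplus h1 h2 h
  · exact R.rpminus h1 h2 h
  · exact R.rexc h1 h2 h
  · exact R.spor _ h1 h2 h

/-- **all simple groups**, from the rows and the classification -/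
theorem Rows.all (R : Rows q) (hcfsg : ∀ (G : Type u) [Group G] [Finite G] [IsSimpleGroup G], IsKnownSimple' G) :
    AllRows.{u} q := fun S _ _ _ hna hd => R.known hna hd (hcfsg S)

end dispatch

/-- **the end**: the text of S4884 from the reduction and the rows -/
theorem final (hR : Reduction.{u}) (hcfsg : ∀ (G : Type u) [Group G] [Finite G] [IsSimpleGroup G], IsKnownSimple' G)
    (q : ℕ) [Fact q.Prime] (R : Rows q) (hq : q ≠ 2) (M2 Mq : Ideal AlgInt) (hM2 : IsPModular 2 M2)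
    (hMq : IsPModular q Mq) {G : Type u} [Group G] [Finite G] (h : HypH q M2 Mq G) :
    ∃ (P : Sylow 2 G) (Q : Sylow q G), ∀ x ∈ (P : Subgroup G), ∀ y ∈ (Q : Subgroup G), x * y = y * x :=
  hR q hq (R.all hcfsg) M2 Mq hM2 hMq G h

end Cfsg.Agent.H706.PB
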